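import Mathlib
import Cfsg.Agent.Lib.FieldRed.Basic

/-!
# The quadratic extension attached to an anisotropic binary form
-/

set_option autoImplicit false

namespace Cfsg.Agent.Lib.LowIso.QuadExt

open Polynomial

variable {F K : Type*} [Field F] [Fintype F] [Field K] [Fintype K] {q : ℕ}

theorem exists_quad (hF : Fintype.card F = q) (hK : Fintype.card K = q ^ 2) (a b : F)
    (hab : ∀ z₁ z₂ : F, z₁ ^ 2 + a * z₁ * z₂ + b * z₂ ^ 2 = 0 → z₁ = 0 ∧ z₂ = 0) :
    ∃ (φ : F →+* K) (ω : K), (∀ x, φ x ^ q = φ x) ∧ (∀ z w : K, (z + w) ^ q = z ^ q + w ^ q) ∧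
      (∀ z : K, (z ^ q) ^ q = z) ∧ ω + ω ^ q = φ a ∧ ω * ω ^ q = φ b ∧
      (∀ x y, φ x + φ y * ω = 0 → x = 0 ∧ y = 0) ∧ (∀ z : K, ∃ x y, φ x + φ y * ω = z) ∧
      (∀ z : K, z ^ q = z → ∃ x, φ x = z) ∧
      (∀ x y, (φ x + φ y * ω) * (φ x + φ y * ω) ^ q = φ (x ^ 2 + a * x * y + b * y ^ 2)) := by
  obtain ⟨φ⟩ := Cfsg.Agent.Lib.FieldRed.exists_ringHom (F := F) (K := K) (d := 2) (by rw [hK, hF])
  letI := φ.toAlgebra
  have hfr : Module.finrank F K = 2 :=
    Cfsg.Agent.Lib.FieldRed.finrank_eq (by rw [hK, hF])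
  have hfix : ∀ x, φ x ^ q = φ x := fun x => by rw [← map_pow, ← hF, FiniteField.pow_card]
  have hadd : ∀ z w : K, (z + w) ^ q = z ^ q + w ^ q := by
    intro z w
    obtain ⟨p, hp⟩ := CharP.exists F
    obtain ⟨n, hpr, hn⟩ := FiniteField.card F p
    have : Fact p.Prime := ⟨hpr⟩
    have : CharP K p := charP_of_injective_ringHom φ.injective p
    rw [← hF, hn]
    exact add_pow_char_pow z w p n
  have hqq : ∀ z : K, (z ^ q) ^ q = z := fun z => by
    rw [← pow_mul, ← sq, ← hK, FiniteField.pow_card]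
  set p : F[X] := X ^ 2 - C a * X + C b with hp
  have hm : p.Monic := by rw [hp]; monicity!
  have hd : p.natDegree = 2 := by rw [hp]; compute_degree!
  have hirr : Irreducible p := by
    rw [hm.irreducible_iff_roots_eq_zero_of_degree_le_three (by omega) (by omega),
      Multiset.eq_zero_iff_forall_notMem]
    intro t ht
    rw [mem_roots hm.ne_zero, IsRoot.def, hp] at ht
    simp only [eval_add, eval_sub, eval_pow, eval_mul, eval_X, eval_C] at ht
    exact one_ne_zero (hab (-t) 1 (by linear_combination ht)).2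
  have : Fact (Irreducible p) := ⟨hirr⟩
  have : Module.Finite F (AdjoinRoot p) := Module.Finite.of_basis (AdjoinRoot.powerBasis hm.ne_zero).basis
  have : Finite (AdjoinRoot p) := Module.finite_of_finite F
  obtain ⟨f⟩ := FiniteField.nonempty_algHom_of_finrank_dvd (F := F) (K := AdjoinRoot p) (L := K)
    (by rw [(AdjoinRoot.powerBasis hm.ne_zero).finrank, AdjoinRoot.powerBasis_dim, hd, hfr])
  set ω : K := f (AdjoinRoot.root p) with hω
  have hroot : ω ^ 2 - φ a * ω + φ b = 0 := by
    have h : aeval ω p = 0 := by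
      rw [hω, aeval_algHom_apply, AdjoinRoot.aeval_eq, AdjoinRoot.mk_self, map_zero]
    rw [hp] at h
    simpa [RingHom.algebraMap_toAlgebra] using h
  have hout : ∀ t, φ t ≠ ω := fun t h => by
    rw [← h] at hroot
    have h' : φ (t ^ 2 - a * t + b) = 0 := by simpa using hroot
    exact one_ne_zero (hab (-t) 1 (by linear_combination (map_eq_zero φ).mp h')).2
  have hind : ∀ x y, φ x + φ y * ω = 0 → x = 0 ∧ y = 0 := fun x y h => by
    rcases eq_or_ne y 0 with rfl | hy
    · exact ⟨(map_eq_zero φ).mp (by simpa using h), rfl⟩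
    · exfalso
      apply hout (-x / y)
      rw [map_div₀, map_neg, div_eq_iff ((map_ne_zero φ).mpr hy)]
      linear_combination -h
  have hbij : Function.Bijective fun v : F × F => φ v.1 + φ v.2 * ω := by
    rw [Fintype.bijective_iff_injective_and_card, Fintype.card_prod, hK, hF, sq]
    refine ⟨fun u v h => ?_, rfl⟩
    have := hind (u.1 - v.1) (u.2 - v.2) (by
      simp only [map_sub] at h ⊢
      linear_combination h)
    exact Prod.ext (sub_eq_zero.mp this.1) (sub_eq_zero.mp this.2)
  have hne : ω ^ q ≠ ω := by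
    intro h3
    have hfixed : ∀ z : K, z ^ q = z := fun z => by
      obtain ⟨⟨x, y⟩, rfl⟩ := hbij.2 z
      show (φ x + φ y * ω) ^ q = _
      rw [hadd, mul_pow, hfix, hfix, h3]
    have hq1 : 1 < q := hF ▸ Fintype.one_lt_card
    have hle : Fintype.card K ≤ q := by
      classical
      have hX : (X ^ q - X : K[X]) ≠ 0 := FiniteField.X_pow_card_sub_X_ne_zero K hq1
      rw [← Finset.card_univ]
      calc (Finset.univ : Finset K).card ≤ (X ^ q - X : K[X]).roots.toFinset.card :=
            Finset.card_le_card fun z _ => by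
              rw [Multiset.mem_toFinset, mem_roots hX, IsRoot.def]
              simp [hfixed z]
        _ ≤ Multiset.card (X ^ q - X : K[X]).roots := Multiset.toFinset_card_le _
        _ ≤ (X ^ q - X : K[X]).natDegree := card_roots' _
        _ = q := FiniteField.X_pow_card_sub_X_natDegree_eq K hq1
    rw [hK] at hle
    nlinarith
  have hconj : ω ^ q + ω = φ a := by
    let σ : K →+* K :=
      { toFun := fun z => z ^ q
        map_one' := one_pow q
        map_mul' := fun x y => mul_pow x y q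
        map_zero' := zero_pow (by have := hF ▸ Fintype.card_pos (α := F); omega)
        map_add' := hadd }
    have h1 := congrArg σ hroot
    rw [map_add, map_sub, map_mul, map_pow, map_zero] at h1
    simp only [show ∀ z, σ z = z ^ q from fun _ => rfl, hfix] at h1
    have h2 : (ω ^ q - ω) * (ω ^ q + ω - φ a) = 0 := by linear_combination h1 - hroot
    rcases mul_eq_zero.mp h2 with h3 | h3
    · exact absurd (sub_eq_zero.mp h3) hne
    · exact sub_eq_zero.mp h3
  have hwa : ω + ω ^ q = φ a := (add_comm _ _).trans hconj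
  have hwb : ω * ω ^ q = φ b := by linear_combination ω * hconj - hroot
  refine ⟨φ, ω, hfix, hadd, hqq, hwa, hwb, hind, fun z => ?_, fun z hz => ?_, fun x y => ?_⟩
  · obtain ⟨⟨x, y⟩, h⟩ := hbij.2 z
    exact ⟨x, y, h⟩
  · obtain ⟨⟨x, y⟩, rfl⟩ := hbij.2 z
    simp only [hadd, mul_pow, hfix] at hz
    refine ⟨x, ?_⟩
    rcases eq_or_ne y 0 with rfl | hy
    · simp
    · exact absurd (mul_left_cancel₀ ((map_ne_zero φ).mpr hy)
        (show φ y * ω ^ q = φ y * ω by linear_combination hz)) hne
  · rw [hadd, mul_pow, hfix, hfix]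
    simp only [map_add, map_mul, map_pow]
    linear_combination φ x * φ y * hwa + φ y ^ 2 * hwb

end Cfsg.Agent.Lib.LowIso.QuadExt
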