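import Cfsg.Agent.Lib.LowIso.Basic
import Cfsg.Agent.Lib.OrthOmega.Simple

/-!
# Orders of `Omega` in dimensions three and four
-/

set_option autoImplicit false

namespace Cfsg.Agent.Lib.LowIso.Small

open Cfsg.Agent.Lib.Forms Cfsg.Agent.Lib.OrthOmega Module

variable {F : Type*} [Field F] [Finite F] {ι : Type} [Fintype ι] [DecidableEq ι]

theorem index_mul_card_omega (Q : QuadraticForm F (ι → F)) {f : (ι → F) → F}
    (hf : ∀ v, f v = Q v) :
    (commutator (orth Q)).index * Nat.card (Cfsg.Omega F f) =
      Nat.card (Cfsg.isometryGroup F f) := by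
  rw [Nat.card_congr (omegaEquiv Q hf).toEquiv, Nat.card_congr (isoOrth Q hf).toEquiv,
    Subgroup.index_mul_card]

theorem four_mul_card_omega (Q : QuadraticForm F (ι → F)) (hQ : Nondeg Q) (h2 : (2 : F) ≠ 0)
    (hn : 2 ≤ finrank F (ι → F)) {f : (ι → F) → F} (hf : ∀ v, f v = Q v) :
    4 * Nat.card (Cfsg.Omega F f) = Nat.card (Cfsg.isometryGroup F f) := by
  rw [← index_mul_card_omega Q hf, index_commutator_odd hQ h2 hn]

theorem card_pOmega_le {f : (ι → F) → F} :
    Nat.card (Cfsg.POmega F f) ≤ Nat.card (Cfsg.Omega F f) :=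
  Nat.card_le_card_of_surjective _ QuotientGroup.mk_surjective

/-- A simple group embedded with index at most two contains `Omega`. -/
theorem card_omega_le {G : Type*} [Group G] [Finite G] [IsSimpleGroup G] {f : (ι → F) → F}
    (φ : G →* Cfsg.isometryGroup F f) (hne : ∃ g, φ g ≠ 1)
    (hO : Nat.card (Cfsg.isometryGroup F f) ≤ 2 * Nat.card G) :
    Nat.card (Cfsg.Omega F f) ≤ Nat.card G := by
  have hinj : Function.Injective φ := by
    rw [← MonoidHom.ker_eq_bot_iff]
    refine (Subgroup.Normal.eq_bot_or_eq_top (MonoidHom.normal_ker φ)).resolve_right fun h => ?_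
    obtain ⟨g, hg⟩ := hne
    exact hg (MonoidHom.mem_ker.mp (h ▸ Subgroup.mem_top g))
  have hr : Nat.card φ.range = Nat.card G :=
    (Nat.card_congr (MonoidHom.ofInjective hinj).toEquiv).symm
  have hi : φ.range.index ≤ 2 := by
    refine Nat.le_of_mul_le_mul_right ?_ (Nat.card_pos (α := φ.range))
    rw [Subgroup.index_mul_card, hr]
    exact hO
  have h0 : φ.range.index ≠ 0 := Subgroup.index_ne_zero_of_finite
  have hn : φ.range.Normal := by
    rcases (show φ.range.index = 1 ∨ φ.range.index = 2 by omega) with h | h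
    · rw [Subgroup.index_eq_one.mp h]; infer_instance
    · exact Subgroup.normal_of_index_eq_two h
  have hc : commutator (Cfsg.isometryGroup F f) ≤ φ.range := by
    rw [← QuotientGroup.ker_mk' φ.range, commutator_def, Subgroup.commutator_le]
    intro a _ b _
    rw [MonoidHom.mem_ker, map_commutatorElement, commutatorElement_eq_one_iff_mul_comm]
    rcases (show φ.range.index = 1 ∨ φ.range.index = 2 by omega) with h | h
    · have : Subsingleton (Cfsg.isometryGroup F f ⧸ φ.range) :=
        (Nat.card_eq_one_iff_unique.mp h).1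
      exact Subsingleton.elim _ _
    · have : Fact (Nat.Prime 2) := ⟨Nat.prime_two⟩
      have := isCyclic_of_prime_card (α := Cfsg.isometryGroup F f ⧸ φ.range) (p := 2) h
      exact IsMulCommutative.is_comm.comm _ _
  exact (Subgroup.card_le_of_le hc).trans hr.le

end Cfsg.Agent.Lib.LowIso.Small
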