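import Cfsg.Prelude.Def_Classical
import Mathlib

/-!
# Tools for the low-dimensional isomorphisms

* `exists_hom`: a group acting semilinearly on a space containing `F^ι` and preserving a function
  gives a map to `Cfsg.isometryGroup`;
* `nonempty_pOmega_equiv`: recognition of `POmega` from a perfect group with simple central quotient;
* 4×4 alternating matrices and their Pfaffian.
-/

set_option autoImplicit false

namespace Cfsg.Agent.Lib.LowIso

open Matrix
open scoped commutatorElement

variable {G : Type*} [Group G]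

theorem exists_hom {F K M : Type*} [Field F] [Field K] [AddCommGroup M] [Module K M]
    {ι : Type} [Fintype ι] [DecidableEq ι] (φ₀ : F →+* K) (ρ : G →* Module.End K M)
    (E : (ι → F) → M) (hadd : ∀ u v, E (u + v) = E u + E v)
    (hsmul : ∀ c v, E (c • v) = φ₀ c • E v) (hinj : Function.Injective E) (f : (ι → F) → F)
    (P : M → K) (hP : ∀ g v, P (ρ g (E v)) = P (E v)) (hf : ∀ v, P (E v) = φ₀ (f v))
    (hmem : ∀ g v, ∃ w, E w = ρ g (E v)) :
    ∃ φ : G →* Cfsg.isometryGroup F f, ∀ g v, E ((φ g).1.1 *ᵥ v) = ρ g (E v) := by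
  choose T hT using hmem
  let L : G → (ι → F) →ₗ[F] (ι → F) := fun g =>
    { toFun := T g
      map_add' := fun u v => hinj (by rw [hT, hadd, map_add, hadd, hT, hT])
      map_smul' := fun c v => hinj (by
        rw [RingHom.id_apply, hT, hsmul, map_smul, hsmul, hT]) }
  let Mh : G →* Matrix ι ι F :=
    { toFun := fun g => LinearMap.toMatrix' (L g)
      map_one' := by
        rw [← LinearMap.toMatrix'_id]
        exact congrArg _ (LinearMap.ext fun v => hinj (by
          show E (T 1 v) = E v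
          rw [hT, map_one, Module.End.one_apply]))
      map_mul' := fun g h => by
        rw [← LinearMap.toMatrix'_comp]
        exact congrArg _ (LinearMap.ext fun v => hinj (by
          show E (T (g * h) v) = E (T g (T h v))
          rw [hT, hT, hT, map_mul, Module.End.mul_apply])) }
  have key : ∀ g v, E ((Mh.toHomUnits g).1 *ᵥ v) = ρ g (E v) := fun g v => by
    show E (LinearMap.toMatrix' (L g) *ᵥ v) = _
    rw [LinearMap.toMatrix'_mulVec]
    exact hT g v
  refine ⟨Mh.toHomUnits.codRestrict _ fun g => ?_, key⟩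
  intro u v
  show f ((Mh.toHomUnits g).1 *ᵥ u) = f u
  exact φ₀.injective (by rw [← hf, key, hP, hf])

/-- Recognition of `POmega`. -/
theorem nonempty_pOmega_equiv_of_le [Finite G] {F : Type*} [Field F] [Finite F] {ι : Type} [Fintype ι]
    [DecidableEq ι] (f : (ι → F) → F) (φ : G →* Cfsg.isometryGroup F f)
    (hperf : commutator G = ⊤) (hs : IsSimpleGroup (G ⧸ Subgroup.center G))
    (hne : ∃ g, φ g ≠ 1)
    (hcard : Nat.card (Cfsg.POmega F f) ≤ Nat.card (G ⧸ Subgroup.center G)) :
    Nonempty (Cfsg.POmega F f ≃* G ⧸ Subgroup.center G) := by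
  have hmem : ∀ g, φ g ∈ Cfsg.Omega F f := by
    intro g
    have h1 : (commutator G).map φ ≤ commutator (Cfsg.isometryGroup F f) := by
      rw [commutator_def, commutator_def, Subgroup.map_commutator]
      exact Subgroup.commutator_mono le_top le_top
    exact h1 ⟨g, by rw [hperf]; exact Subgroup.mem_top g, rfl⟩
  let φ' : G →* Cfsg.Omega F f := φ.codRestrict _ hmem
  let ψ : G →* Cfsg.POmega F f :=
    (QuotientGroup.mk' (Subgroup.center (Cfsg.Omega F f))).comp φ'
  let Z := Subgroup.center G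
  have hnk : ψ.ker ≠ ⊤ := by
    intro htop
    have hcom : ∀ a b, φ' a * φ' b = φ' b * φ' a := fun a b => by
      have ha : φ' a ∈ Subgroup.center (Cfsg.Omega F f) :=
        (QuotientGroup.eq_one_iff (φ' a)).mp
          (show a ∈ ψ.ker by rw [htop]; exact Subgroup.mem_top a)
      exact (Subgroup.mem_center_iff.mp ha (φ' b)).symm
    obtain ⟨g, hg⟩ := hne
    have hle : commutator G ≤ φ'.ker := by
      rw [commutator_def, Subgroup.commutator_le]
      intro a _ b _
      rw [MonoidHom.mem_ker, map_commutatorElement, commutatorElement_eq_one_iff_mul_comm]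
      exact hcom a b
    exact hg (congrArg Subtype.val
      (show φ' g = 1 from hle (show g ∈ commutator G by rw [hperf]; exact Subgroup.mem_top g)))
  have hkZ : ψ.ker ≤ Z := by
    have hn : (ψ.ker.map (QuotientGroup.mk' Z)).Normal :=
      Subgroup.Normal.map inferInstance _ (QuotientGroup.mk'_surjective Z)
    rcases hn.eq_bot_or_eq_top with h | h
    · intro g hg
      refine (QuotientGroup.eq_one_iff g).mp ?_
      have : QuotientGroup.mk' Z g ∈ ψ.ker.map (QuotientGroup.mk' Z) := ⟨g, hg, rfl⟩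
      rw [h, Subgroup.mem_bot] at this
      exact this
    · exfalso
      apply hnk
      rw [eq_top_iff, ← hperf, commutator_def, Subgroup.commutator_le]
      intro a _ b _
      have ha' : QuotientGroup.mk' Z a ∈ ψ.ker.map (QuotientGroup.mk' Z) := by
        rw [h]; exact Subgroup.mem_top _
      obtain ⟨k, hk, hka⟩ := ha'
      obtain ⟨z, hz, rfl⟩ := (QuotientGroup.mk'_eq_mk' Z).mp hka
      rw [MonoidHom.mem_ker, map_commutatorElement, map_mul, show ψ k = 1 from hk, one_mul,
        ← map_commutatorElement, commutatorElement_eq_one_iff_mul_comm.mpr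
          (Subgroup.mem_center_iff.mp hz b).symm, map_one]
  have h1 : Nat.card ψ.range = ψ.ker.index := (Subgroup.index_ker ψ).symm
  have h2 : Z.index ≤ ψ.ker.index := Nat.le_of_dvd
    (Nat.pos_of_ne_zero Subgroup.index_ne_zero_of_finite) (Subgroup.index_dvd_of_le hkZ)
  have h3 : Nat.card ψ.range ≤ Nat.card (Cfsg.POmega F f) := Subgroup.card_le_card_group _
  have h4 : Nat.card (G ⧸ Z) = Z.index := rfl
  rw [h1] at h3
  rw [h4] at hcard
  have hsurj : ψ.range = ⊤ := Subgroup.eq_top_of_card_eq _ (by rw [h1]; omega)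
  have hker : ψ.ker = Z := by
    refine le_antisymm hkZ ?_
    have e1 := ψ.ker.card_mul_index
    rw [show ψ.ker.index = Z.index by omega, ← Z.card_mul_index] at e1
    exact (Subgroup.eq_of_le_of_card_ge hkZ
      (Nat.eq_of_mul_eq_mul_right (Nat.pos_of_ne_zero Subgroup.index_ne_zero_of_finite) e1).symm.le).ge
  exact ⟨((QuotientGroup.quotientMulEquivOfEq hker.symm).trans
    (QuotientGroup.quotientKerEquivOfSurjective ψ (MonoidHom.range_eq_top.mp hsurj))).symm⟩

theorem nonempty_pOmega_equiv [Finite G] {F : Type*} [Field F] [Finite F] {ι : Type} [Fintype ι]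
    [DecidableEq ι] (f : (ι → F) → F) (φ : G →* Cfsg.isometryGroup F f)
    (hperf : commutator G = ⊤) (hs : IsSimpleGroup (G ⧸ Subgroup.center G))
    (hne : ∃ g, φ g ≠ 1)
    (hcard : Nat.card (Cfsg.POmega F f) = Nat.card (G ⧸ Subgroup.center G)) :
    Nonempty (Cfsg.POmega F f ≃* G ⧸ Subgroup.center G) :=
  nonempty_pOmega_equiv_of_le f φ hperf hs hne hcard.le

/-! ### Alternating 4×4 matrices -/

variable {R : Type*} [CommRing R]

/-- The alternating matrix with the given entries above the diagonal. -/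
def altMat (p01 p02 p03 p12 p13 p23 : R) : Matrix (Fin 4) (Fin 4) R :=
  !![0, p01, p02, p03; -p01, 0, p12, p13; -p02, -p12, 0, p23; -p03, -p13, -p23, 0]

/-- The Pfaffian. -/
def pf (X : Matrix (Fin 4) (Fin 4) R) : R := X 0 1 * X 2 3 - X 0 2 * X 1 3 + X 0 3 * X 1 2

theorem pf_altMat (a b c d e f : R) : pf (altMat a b c d e f) = a * f - b * e + c * d := by
  simp [pf, altMat]

set_option maxHeartbeats 4000000 in
theorem pf_conj (g : Matrix (Fin 4) (Fin 4) R) (a b c d e f : R) :
    pf (g * altMat a b c d e f * gᵀ) = g.det * pf (altMat a b c d e f) := by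
  simp [pf, altMat, Matrix.mul_apply, Matrix.det_succ_row_zero, Fin.sum_univ_succ, Fin.succAbove]
  ring

theorem altMat_eq_sub (a b c d e f : R) : altMat a b c d e f =
    !![0, a, b, c; 0, 0, d, e; 0, 0, 0, f; 0, 0, 0, 0] -
      !![0, a, b, c; 0, 0, d, e; 0, 0, 0, f; 0, 0, 0, 0]ᵀ := by
  ext i j
  fin_cases i <;> fin_cases j <;> simp [altMat]

theorem sub_transpose_eq_altMat (B : Matrix (Fin 4) (Fin 4) R) : B - Bᵀ =
    altMat ((B - Bᵀ) 0 1) ((B - Bᵀ) 0 2) ((B - Bᵀ) 0 3) ((B - Bᵀ) 1 2) ((B - Bᵀ) 1 3)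
      ((B - Bᵀ) 2 3) := by
  ext i j
  fin_cases i <;> fin_cases j <;> simp [altMat]

theorem conj_altMat (g : Matrix (Fin 4) (Fin 4) R) (a b c d e f : R) :
    ∃ a' b' c' d' e' f', g * altMat a b c d e f * gᵀ = altMat a' b' c' d' e' f' := by
  set B := g * !![0, a, b, c; 0, 0, d, e; 0, 0, 0, f; 0, 0, 0, 0] * gᵀ
  refine ⟨(B - Bᵀ) 0 1, (B - Bᵀ) 0 2, (B - Bᵀ) 0 3, (B - Bᵀ) 1 2, (B - Bᵀ) 1 3,
    (B - Bᵀ) 2 3, ?_⟩
  rw [altMat_eq_sub, Matrix.mul_sub, Matrix.sub_mul]
  rw [show g * !![0, a, b, c; 0, 0, d, e; 0, 0, 0, f; 0, 0, 0, 0]ᵀ * gᵀ = Bᵀ by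
    rw [Matrix.transpose_mul, Matrix.transpose_mul, Matrix.transpose_transpose, Matrix.mul_assoc]]
  exact sub_transpose_eq_altMat B

/-- The congruence action on 4×4 matrices. -/
def congAction : Matrix (Fin 4) (Fin 4) R →* Module.End R (Matrix (Fin 4) (Fin 4) R) where
  toFun g :=
    { toFun := fun X => g * X * gᵀ
      map_add' := fun X Y => by rw [Matrix.mul_add, Matrix.add_mul]
      map_smul' := fun c X => by rw [RingHom.id_apply, Matrix.mul_smul, Matrix.smul_mul] }
  map_one' := LinearMap.ext fun X => by simp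
  map_mul' g h := LinearMap.ext fun X => by
    show g * h * X * (g * h)ᵀ = g * (h * X * hᵀ) * gᵀ
    simp only [Matrix.transpose_mul, Matrix.mul_assoc]

theorem congAction_apply (g X : Matrix (Fin 4) (Fin 4) R) : congAction g X = g * X * gᵀ := rfl

end Cfsg.Agent.Lib.LowIso
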