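import Cfsg.Agent.Lib.LowIso.Basic

/-!
# The twisted six-space of alternating matrices preserved by the special unitary group
-/

set_option autoImplicit false

namespace Cfsg.Agent.Lib.LowIso.Herm4

open Matrix
open Cfsg.Agent.Lib.LowIso

variable {R : Type*} [CommRing R]

/-- Alternating matrices whose Pfaffian pairing equals the Hermitian trace pairing. -/
def Twisted (σ : R →+* R) (X : Matrix (Fin 4) (Fin 4) R) : Prop :=
  (∃ a b c d e f, X = altMat a b c d e f) ∧
    ∀ B : Matrix (Fin 4) (Fin 4) R,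
      pf (B - Bᵀ + X) - pf (B - Bᵀ) - pf X = (B * (X.map σ)ᵀ).trace

theorem pf_conj' (g X : Matrix (Fin 4) (Fin 4) R) (h : ∃ a b c d e f, X = altMat a b c d e f) :
    pf (g * X * gᵀ) = g.det * pf X := by
  obtain ⟨a, b, c, d, e, f, rfl⟩ := h
  exact pf_conj g a b c d e f

theorem altMat_add (a b c d e f a' b' c' d' e' f' : R) :
    altMat a b c d e f + altMat a' b' c' d' e' f' =
      altMat (a + a') (b + b') (c + c') (d + d') (e + e') (f + f') := by
  ext i j
  fin_cases i <;> fin_cases j <;> simp [altMat] <;> ring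

theorem twisted_conj {σ : R →+* R} {g X : Matrix (Fin 4) (Fin 4) R} (hdet : g.det = 1)
    (hg : gᵀ * g.map σ = 1) (hX : Twisted σ X) : Twisted σ (g * X * gᵀ) := by
  obtain ⟨⟨a, b, c, d, e, f, rfl⟩, hX⟩ := hX
  refine ⟨conj_altMat g a b c d e f, fun B => ?_⟩
  have h1 : g.map σ * gᵀ = 1 := mul_eq_one_comm.mp hg
  have h2 : g * (g.map σ)ᵀ = 1 := by
    have := congrArg Matrix.transpose h1
    rwa [transpose_mul, transpose_transpose, transpose_one] at this
  have hB : g * ((g.map σ)ᵀ * B * g.map σ) * gᵀ = B := by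
    rw [← Matrix.mul_assoc, ← Matrix.mul_assoc, h2, Matrix.one_mul, Matrix.mul_assoc, h1,
      Matrix.mul_one]
  generalize (g.map σ)ᵀ * B * g.map σ = B' at hB
  subst hB
  have hs : g * B' * gᵀ - (g * B' * gᵀ)ᵀ = g * (B' - B'ᵀ) * gᵀ := by
    simp only [transpose_mul, transpose_transpose, Matrix.mul_sub, Matrix.sub_mul, Matrix.mul_assoc]
  rw [hs, ← Matrix.add_mul, ← Matrix.mul_add,
    pf_conj' _ _ ⟨_, _, _, _, _, _, sub_transpose_eq_altMat B'⟩,
    pf_conj' _ _ ⟨_, _, _, _, _, _, by rw [sub_transpose_eq_altMat B', altMat_add]⟩,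
    pf_conj g, hdet, one_mul, one_mul, one_mul, hX B']
  rw [Matrix.map_mul, Matrix.map_mul, Matrix.transpose_map, transpose_mul, transpose_mul,
    transpose_transpose]
  calc (B' * ((altMat a b c d e f).map σ)ᵀ).trace
      = (B' * ((gᵀ * g.map σ) * (((altMat a b c d e f).map σ)ᵀ * ((g.map σ)ᵀ * g)))).trace := by
        rw [hg, Matrix.one_mul]
        have h3 : (g.map σ)ᵀ * g = 1 := mul_eq_one_comm.mp h2
        rw [h3, Matrix.mul_one]
    _ = _ := by
        simp only [← Matrix.mul_assoc]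
        rw [Matrix.trace_mul_comm]
        simp only [← Matrix.mul_assoc]

theorem twisted_altMat {σ : R →+* R} (hσ : ∀ x, σ (σ x) = x) (a b c : R) :
    Twisted σ (altMat a b c (σ c) (-σ b) (σ a)) := by
  refine ⟨⟨_, _, _, _, _, _, rfl⟩, fun B => ?_⟩
  simp [pf, altMat, Matrix.trace, Matrix.mul_apply, Fin.sum_univ_succ, hσ]
  ring

theorem Twisted.eq {σ : R →+* R} {X : Matrix (Fin 4) (Fin 4) R} (hX : Twisted σ X) :
    ∃ a b c, X = altMat a b c (σ c) (-σ b) (σ a) := by
  obtain ⟨⟨a, b, c, d, e, f, rfl⟩, hX⟩ := hX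
  have h1 := hX (Matrix.single 0 1 1)
  have h2 := hX (Matrix.single 0 2 1)
  have h3 := hX (Matrix.single 0 3 1)
  simp [pf, altMat, Matrix.trace, Matrix.mul_apply, Fin.sum_univ_succ, Matrix.single_apply]
    at h1 h2 h3
  obtain rfl : f = σ a := by linear_combination h1
  obtain rfl : e = -σ b := by linear_combination -h2
  obtain rfl : d = σ c := by linear_combination h3
  exact ⟨a, b, c, rfl⟩

end Cfsg.Agent.Lib.LowIso.Herm4
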