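import Cfsg.Agent.Lib.LowIso.Small
import Cfsg.Agent.Lib.Linear.Transvection

/-!
# Images of `SL₂` in small orthogonal groups
-/

set_option autoImplicit false

namespace Cfsg.Agent.Lib.LowIso.SL2Tools

open Matrix
open scoped commutatorElement

variable {F : Type*} [Field F]

theorem mem_of_pow_mem {G : Type*} [Group G] (N : Subgroup G) [N.Normal] {g : G} {n : ℕ}
    (hn : Nat.Coprime n N.index) (hg : g ^ n = 1) : g ∈ N := by
  rw [← QuotientGroup.eq_one_iff]
  have h1 : (g : G ⧸ N) ^ n = 1 := by rw [← QuotientGroup.mk_pow, hg]; rfl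
  have h2 : (g : G ⧸ N) ^ N.index = 1 := pow_card_eq_one'
  simpa [hn.gcd_eq_one] using (pow_gcd_eq_one.mpr ⟨h1, h2⟩)

/-- In a normal subgroup whose index is a power of two lie all images of `SL₂(q)`, `q` odd. -/
theorem map_mem_of_odd [Fintype F] (hodd : Odd (Fintype.card F)) {H : Type*} [Group H]
    (φ : Matrix.SpecialLinearGroup (Fin 2) F →* H) (N : Subgroup H) [N.Normal] (hN : N.index = 4)
    (g : Matrix.SpecialLinearGroup (Fin 2) F) : φ g ∈ N := by
  suffices N.comap φ = ⊤ by
    have : g ∈ N.comap φ := by rw [this]; trivial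
    exact this
  refine Cfsg.Agent.Lib.Linear.sl_eq_top_of_transvection_mem _ fun i j hij c => ?_
  obtain ⟨p, hp⟩ := CharP.exists F
  obtain ⟨n, hpr, hn⟩ := FiniteField.card F p
  have hpodd : Odd p := by
    rcases hpr.eq_two_or_odd' with rfl | h
    · rw [hn] at hodd
      exact absurd hodd (by simp [Nat.odd_pow_iff n.ne_zero])
    · exact h
  refine mem_of_pow_mem N (n := p) ?_ ?_
  · rw [hN, show 4 = 2 ^ 2 by norm_num]
    exact (Nat.coprime_two_right.mpr hpodd).pow_right 2
  · have : ∀ k : ℕ, Matrix.SpecialLinearGroup.transvection hij c ^ k =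
        Matrix.SpecialLinearGroup.transvection hij ((k : F) * c) := fun k => by
      induction k with
      | zero => simp
      | succ k ih =>
        rw [pow_succ, ih, ← Matrix.SpecialLinearGroup.transvection_add, Nat.cast_succ, add_one_mul]
    rw [← map_pow, this, CharP.cast_eq_zero, zero_mul]
    simp

theorem mem_center_of_commute {g : Matrix.SpecialLinearGroup (Fin 2) F}
    (h1 : Commute g.1 (Matrix.transvection 0 1 1)) (h2 : Commute g.1 (Matrix.transvection 1 0 1)) :
    g ∈ Subgroup.center (Matrix.SpecialLinearGroup (Fin 2) F) := by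
  have a1 := congrFun (congrFun h1.eq 0) 0
  have a2 := congrFun (congrFun h1.eq 0) 1
  have b1 := congrFun (congrFun h2.eq 0) 0
  simp [Matrix.mul_apply, Fin.sum_univ_two, Matrix.transvection, Matrix.single_apply] at a1 a2 b1
  rw [Subgroup.mem_center_iff]
  intro k
  have hg : g.1 = scalar (Fin 2) (g.1 0 0) := by
    ext i j
    fin_cases i <;> fin_cases j <;> simp [Matrix.diagonal_apply]
    · linear_combination b1
    · exact a1
    · linear_combination -a2
  refine Subtype.ext ?_
  show k.1 * g.1 = g.1 * k.1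
  rw [hg]
  exact ((scalar_commute _ (Commute.all _) k.1).eq).symm

theorem center_scalar {g : Matrix.SpecialLinearGroup (Fin 2) F}
    (hg : g ∈ Subgroup.center (Matrix.SpecialLinearGroup (Fin 2) F)) (M : Matrix (Fin 2) (Fin 2) F) :
    g.1 * M = M * g.1 := by
  obtain ⟨r, -, hr⟩ := Matrix.SpecialLinearGroup.mem_center_iff.mp hg
  rw [← hr]
  exact (scalar_commute _ (Commute.all _) M).eq

/-- `gtg⁻¹ = ± t` forces `g` to commute with the transvection `t`. -/
theorem commute_of_commutator_scalar {g : Matrix.SpecialLinearGroup (Fin 2) F}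
    {i j : Fin 2} (hij : i ≠ j)
    (h : ⁅g, Matrix.SpecialLinearGroup.transvection hij (1 : F)⁆ ∈
      Subgroup.center (Matrix.SpecialLinearGroup (Fin 2) F)) :
    Commute g.1 (Matrix.transvection i j 1) := by
  set t := Matrix.SpecialLinearGroup.transvection hij (1 : F) with ht
  obtain ⟨r, -, hr⟩ := Matrix.SpecialLinearGroup.mem_center_iff.mp h
  have he : g * t * g⁻¹ = ⁅g, t⁆ * t := by rw [commutatorElement_def]; group
  have hm : g.1 * t.1 * (g⁻¹).1 = r • t.1 := by
    have := congrArg Subtype.val he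
    rw [Matrix.SpecialLinearGroup.coe_mul, Matrix.SpecialLinearGroup.coe_mul, Matrix.SpecialLinearGroup.coe_mul, ← hr,
      Matrix.scalar_apply] at this
    rw [this, ← Matrix.smul_eq_diagonal_mul]
  have htr : t.1.trace = 2 := by
    show (Matrix.transvection i j (1 : F)).trace = 2
    simp [Matrix.transvection, Matrix.trace_single_eq_of_ne _ _ _ hij]
  have hr1 : r * 2 = 2 := by
    have := congrArg Matrix.trace hm
    rw [Matrix.trace_mul_cycle, ← Matrix.SpecialLinearGroup.coe_mul, inv_mul_cancel,
      Matrix.SpecialLinearGroup.coe_one, Matrix.one_mul, Matrix.trace_smul, htr, smul_eq_mul] at this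
    exact this.symm
  have hrr : r = 1 := by
    by_cases h2 : (2 : F) = 0
    · have hd := (⁅g, t⁆).2
      rw [← hr] at hd
      simp [Matrix.det_fin_two] at hd
      rcases hd with h1 | h1
      · exact h1
      · rw [h1]; linear_combination -h2
    · exact mul_right_cancel₀ h2 (by rw [hr1, one_mul])
  rw [hrr, one_smul] at hm
  show g.1 * t.1 = t.1 * g.1
  calc g.1 * t.1 = g.1 * t.1 * (g⁻¹).1 * g.1 := by
        rw [Matrix.mul_assoc _ (g⁻¹).1, ← Matrix.SpecialLinearGroup.coe_mul g⁻¹ g, inv_mul_cancel,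
          Matrix.SpecialLinearGroup.coe_one, Matrix.mul_one]
    _ = _ := by rw [hm]

theorem mem_center_of_commutators {g : Matrix.SpecialLinearGroup (Fin 2) F}
    (h : ∀ k, ⁅g, k⁆ ∈ Subgroup.center (Matrix.SpecialLinearGroup (Fin 2) F)) :
    g ∈ Subgroup.center (Matrix.SpecialLinearGroup (Fin 2) F) :=
  mem_center_of_commute (commute_of_commutator_scalar (by decide) (h _))
    (commute_of_commutator_scalar (by decide) (h _))

variable {G : Type*} [Group G]

/-- Recognition of `POmega` from a map with central kernel onto `Omega`. -/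
theorem nonempty_pOmega_equiv_center {K : Type*} [Field K] [Finite K] {ι : Type} [Fintype ι]
    [DecidableEq ι] {f : (ι → K) → K} (φ : G →* Cfsg.isometryGroup K f)
    (hmem : ∀ g, φ g ∈ Cfsg.Omega K f) (hcard : Nat.card (Cfsg.Omega K f) ≤ Nat.card φ.range)
    (hc : ∀ g, (∀ h, φ ⁅g, h⁆ = 1) → g ∈ Subgroup.center G) :
    Nonempty (Cfsg.POmega K f ≃* G ⧸ Subgroup.center G) := by
  let φ' : G →* Cfsg.Omega K f := φ.codRestrict _ hmem
  have hle : φ.range ≤ Cfsg.Omega K f := by rintro _ ⟨g, rfl⟩; exact hmem g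
  have heq := Subgroup.eq_of_le_of_card_ge hle hcard
  have hsurj : Function.Surjective φ' := fun x => by
    obtain ⟨g, hg⟩ : x.1 ∈ φ.range := by rw [heq]; exact x.2
    exact ⟨g, Subtype.ext hg⟩
  let ψ : G →* Cfsg.POmega K f :=
    (QuotientGroup.mk' (Subgroup.center (Cfsg.Omega K f))).comp φ'
  have hψ : Function.Surjective ψ := (QuotientGroup.mk'_surjective _).comp hsurj
  have hk : ψ.ker = Subgroup.center G := by
    ext g
    rw [MonoidHom.mem_ker]
    show ((φ' g : Cfsg.Omega K f) : Cfsg.POmega K f) = 1 ↔ _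
    rw [QuotientGroup.eq_one_iff, Subgroup.mem_center_iff]
    constructor
    · intro hh
      refine hc g fun h => ?_
      have h1 : φ' ⁅g, h⁆ = 1 := by
        rw [map_commutatorElement, commutatorElement_eq_one_iff_mul_comm]
        exact (hh (φ' h)).symm
      exact congrArg Subtype.val h1
    · intro hg x
      obtain ⟨h, rfl⟩ := hsurj x
      rw [← map_mul, ← map_mul, (Subgroup.mem_center_iff.mp hg h)]
  exact ⟨((QuotientGroup.quotientMulEquivOfEq hk.symm).trans
    (QuotientGroup.quotientKerEquivOfSurjective ψ hψ)).symm⟩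

end Cfsg.Agent.Lib.LowIso.SL2Tools
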